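/-
Computations in normal forms for PSL(2,11).
-/
import Mathlib
import Cfsg.Agent.Lib.PSL2Eleven.Data

set_option autoImplicit false
set_option linter.style.haveILetI false
set_option linter.unusedSectionVars false

namespace CfsgLib.PSL2Eleven

open Matrix
open scoped Pointwise

abbrev Quad := ℕ × ℕ × ℕ × ℕ

def code4 : Quad → ℕ | (a, b, c, d) => ((a * 11 + b) * 11 + c) * 11 + d
def dg (x : ℕ) : Quad := (x / 1331, x / 121 % 11, x / 11 % 11, x % 11)
def negQ : Quad → Quad | (a, b, c, d) => ((11 - a) % 11, (11 - b) % 11, (11 - c) % 11, (11 - d) % 11)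
def nrm (t : Quad) : ℕ := min (code4 t) (code4 (negQ t))
def tmQ : Quad → Quad → Quad
  | (a, b, c, d), (e, f, g, h) =>
    ((a * e + b * g) % 11, (a * f + b * h) % 11, (c * e + d * g) % 11, (c * f + d * h) % 11)
def mulC (x y : ℕ) : ℕ := nrm (tmQ (dg x) (dg y))
def adjQ : Quad → Quad | (a, b, c, d) => (d, (11 - b) % 11, (11 - c) % 11, a)
def invC (x : ℕ) : ℕ := nrm (adjQ (dg x))
def outQ : Quad → Quad | (a, b, c, d) => (a, 2 * b % 11, 6 * c % 11, d)
def outC (x : ℕ) : ℕ := nrm (outQ (dg x))
def conC (g x : ℕ) : ℕ := mulC (mulC g x) (invC g)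
def detQ : Quad → ℕ | (a, b, c, d) => (a * d + (11 - b) * c) % 11

/-- The identity code. -/
def oneC : ℕ := 1332
/-- The chosen involution. -/
def invol : ℕ := 231

theorem chk_all : ((List.range 11).all fun a => (List.range 11).all fun b => (List.range 11).all fun c =>
    (List.range 11).all fun d => detQ (a, b, c, d) != 1 || allCodes.contains (nrm (a, b, c, d))) = true := by
  decide +kernel

theorem chk_surj : (allCodes.all fun n => n < 14641 && detQ (dg n) == 1 && nrm (dg n) == n) = true := by
  decide +kernel

theorem chk_invol : (allCodes.all fun a => mulC a a != oneC || a == oneC ||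
    invMovers.any fun g => conC g a == invol) = true := by
  decide +kernel

def pow3 (b : ℕ) : ℕ := mulC (mulC b b) b
def pow5 (b : ℕ) : ℕ := mulC (pow3 b) (mulC b b)

theorem chk_pairs : (allCodes.all fun b => pow3 b != oneC || b == oneC ||
    pow5 (mulC invol b) != oneC || mulC invol b == oneC || pairMovers.any fun g =>
      (icoOne.contains (conC g invol) && icoOne.contains (conC g b)) ||
      (icoTwo.contains (conC g invol) && icoTwo.contains (conC g b))) = true := by
  decide +kernel

theorem chk_closed : ((icoOne.all fun x => icoOne.all fun y => icoOne.contains (mulC x y)) &&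
    (icoTwo.all fun x => icoTwo.all fun y => icoTwo.contains (mulC x y)) &&
    (icoOne.all fun x => icoTwo.contains (outC x)) && icoOne.contains oneC && icoTwo.contains oneC &&
    (icoOne.all fun x => allCodes.contains x) && (icoTwo.all fun x => allCodes.contains x) &&
    (pairMovers.all fun x => allCodes.contains x) && (invMovers.all fun x => allCodes.contains x) &&
    icoOne.length == 60 && icoTwo.length == 60 && decide icoOne.Nodup && decide icoTwo.Nodup) = true := by
  decide +kernel

theorem chk_apart : (allCodes.all fun g => icoOne.any fun x => !icoTwo.contains (conC g x)) = true := by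
  decide +kernel

theorem chk_moving : (allCodes.contains 232 && allCodes.contains 231 &&
    (icoOne.any fun x => !icoOne.contains (conC 232 x)) &&
    (icoTwo.any fun x => !icoTwo.contains (conC 231 x))) = true := by
  decide +kernel

end CfsgLib.PSL2Eleven
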