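/-
PSL(2,11) has two classes of eleven subgroups isomorphic to A5.
-/
import Mathlib
import Cfsg.Agent.Lib.PSL2Platonic
import Cfsg.Agent.Lib.PSL2Eleven.Checks

set_option autoImplicit false
set_option linter.style.haveILetI false
set_option linter.unusedSectionVars false

namespace CfsgLib.PSL2Eleven

open Matrix
open scoped Pointwise

section Model

variable {F : Type*} [Field F] [Fintype F] (e : F ≃+* ZMod 11)

local notation "SL" => Matrix.SpecialLinearGroup (Fin 2) F
local notation "G" => Matrix.ProjectiveSpecialLinearGroup (Fin 2) F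

/-- Digits of a matrix. -/
def tv (M : Matrix (Fin 2) (Fin 2) F) : Quad :=
  ((e (M 0 0)).val, (e (M 0 1)).val, (e (M 1 0)).val, (e (M 1 1)).val)

theorem dg_code4 (a b c d : ℕ) (hb : b < 11) (hc : c < 11) (hd : d < 11) : dg (code4 (a, b, c, d)) = (a, b, c, d) := by
  simp only [dg, code4, Prod.mk.injEq]
  omega

theorem dg_tv (M : Matrix (Fin 2) (Fin 2) F) : dg (code4 (tv e M)) = tv e M :=
  dg_code4 _ _ _ _ (ZMod.val_lt _) (ZMod.val_lt _) (ZMod.val_lt _)

theorem tv_injective {M N : Matrix (Fin 2) (Fin 2) F} (h : tv e M = tv e N) : M = N := by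
  simp only [tv, Prod.mk.injEq] at h
  obtain ⟨h1, h2, h3, h4⟩ := h
  ext i j
  fin_cases i <;> fin_cases j <;> apply e.injective <;> apply ZMod.val_injective
  · exact h1
  · exact h2
  · exact h3
  · exact h4

theorem tv_neg (M : Matrix (Fin 2) (Fin 2) F) : tv e (-M) = negQ (tv e M) := by
  simp only [tv, negQ, Matrix.neg_apply, map_neg, ZMod.neg_val']

theorem nrm_neg (M : Matrix (Fin 2) (Fin 2) F) : nrm (tv e (-M)) = nrm (tv e M) := by
  have h : negQ (tv e (-M)) = tv e M := by rw [← tv_neg, neg_neg]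
  rw [nrm, nrm, h, tv_neg, min_comm]

theorem dg_nrm (M : Matrix (Fin 2) (Fin 2) F) :
    dg (nrm (tv e M)) = tv e M ∨ dg (nrm (tv e M)) = tv e (-M) := by
  rw [nrm, ← tv_neg]
  rcases le_total (code4 (tv e M)) (code4 (tv e (-M))) with h | h
  · left; rw [min_eq_left h, dg_tv]
  · right; rw [min_eq_right h, dg_tv]

theorem nrm_eq_iff {M N : Matrix (Fin 2) (Fin 2) F} (h : nrm (tv e M) = nrm (tv e N)) : M = N ∨ M = -N := by
  have h' := congrArg dg h
  rcases dg_nrm e M with hM | hM <;> rcases dg_nrm e N with hN | hN <;> rw [hM, hN] at h' <;>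
    have h'' := tv_injective e h'
  · exact Or.inl h''
  · exact Or.inr h''
  · exact Or.inr (neg_eq_iff_eq_neg.mp h'')
  · exact Or.inl (neg_injective h'')

theorem tv_mul (M N : Matrix (Fin 2) (Fin 2) F) : tv e (M * N) = tmQ (tv e M) (tv e N) := by
  simp only [tv, tmQ, Matrix.mul_apply, Fin.sum_univ_two, map_add, map_mul, ZMod.val_add, ZMod.val_mul,
    Prod.mk.injEq]
  simp [Nat.add_mod, Nat.mul_mod]

theorem mulC_nrm (M N : Matrix (Fin 2) (Fin 2) F) :
    mulC (nrm (tv e M)) (nrm (tv e N)) = nrm (tv e (M * N)) := by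
  rcases dg_nrm e M with hM | hM <;> rcases dg_nrm e N with hN | hN <;>
    rw [mulC, hM, hN, ← tv_mul] <;> simp only [neg_mul, mul_neg, neg_neg, nrm_neg]

theorem val_mul (M N : SL) :
    ((M * N : SL) : Matrix (Fin 2) (Fin 2) F) = (M : Matrix (Fin 2) (Fin 2) F) * (N : Matrix (Fin 2) (Fin 2) F) := rfl

theorem center_iff (z : SL) : z ∈ Subgroup.center SL → (z : Matrix (Fin 2) (Fin 2) F) = 1 ∨ (z : Matrix (Fin 2) (Fin 2) F) = -1 := by
  intro hz
  obtain ⟨r, hr, hz'⟩ := Matrix.SpecialLinearGroup.mem_center_iff.mp hz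
  rw [Fintype.card_fin] at hr
  rcases sq_eq_one_iff.mp hr with rfl | rfl
  · left; rw [← hz']; simp
  · right; rw [← hz', map_neg, map_one]

/-- The code of an element of the projective group. -/
def cd : G → ℕ :=
  Quotient.lift (fun M : SL => nrm (tv e (M : Matrix (Fin 2) (Fin 2) F))) fun M N h => by
    have h' : M⁻¹ * N ∈ Subgroup.center SL := QuotientGroup.leftRel_apply.mp h
    have hN : (N : Matrix (Fin 2) (Fin 2) F) = (M : Matrix (Fin 2) (Fin 2) F) * ((M⁻¹ * N : SL) : Matrix (Fin 2) (Fin 2) F) := by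
      exact (congrArg (fun A : SL => (A : Matrix (Fin 2) (Fin 2) F)) (mul_inv_cancel_left M N).symm).trans (val_mul _ _)
    rcases center_iff _ h' with hc | hc <;> rw [hc] at hN
    · rw [mul_one] at hN; show nrm (tv e _) = _; rw [hN]
    · rw [mul_neg, mul_one] at hN; show nrm (tv e _) = _; rw [hN, nrm_neg]

theorem cd_mk (M : SL) : cd e (M : G) = nrm (tv e (M : Matrix (Fin 2) (Fin 2) F)) := rfl

theorem cd_mul (x y : G) : cd e (x * y) = mulC (cd e x) (cd e y) := by
  induction x using QuotientGroup.induction_on with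
  | _ M =>
    induction y using QuotientGroup.induction_on with
    | _ N => rw [← QuotientGroup.mk_mul, cd_mk, cd_mk, cd_mk, mulC_nrm]; rfl

theorem cd_injective : Function.Injective (cd e) := by
  intro x y h
  induction x using QuotientGroup.induction_on with
  | _ M =>
    induction y using QuotientGroup.induction_on with
    | _ N =>
      rw [cd_mk, cd_mk] at h
      rw [QuotientGroup.eq]
      rcases nrm_eq_iff e h with h' | h'
      · rw [show M = N from Subtype.ext h', inv_mul_cancel]; exact one_mem _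
      · rw [Subgroup.mem_center_iff]
        intro g
        have hc : ((M⁻¹ * N : SL) : Matrix (Fin 2) (Fin 2) F) = -1 := by
          have hN : (N : Matrix (Fin 2) (Fin 2) F) = -(M : Matrix (Fin 2) (Fin 2) F) := by rw [h', neg_neg]
          refine (val_mul _ _).trans ?_
          rw [hN, mul_neg]
          exact congrArg Neg.neg ((val_mul _ _).symm.trans (congrArg (fun A : SL => (A : Matrix (Fin 2) (Fin 2) F)) (inv_mul_cancel M)))
        refine Subtype.ext ?_
        show (g : Matrix (Fin 2) (Fin 2) F) * ((M⁻¹ * N : SL) : Matrix (Fin 2) (Fin 2) F) = _ * (g : Matrix (Fin 2) (Fin 2) F)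
        rw [hc, mul_neg, mul_one, neg_mul, one_mul]

theorem val_one_e : (e (1 : F)).val = 1 := by rw [map_one]; rfl

theorem cd_one : cd e (1 : G) = oneC := by
  show nrm (tv e ((1 : SL) : Matrix (Fin 2) (Fin 2) F)) = oneC
  show nrm (tv e (1 : Matrix (Fin 2) (Fin 2) F)) = oneC
  simp only [tv, Matrix.one_apply_eq, Matrix.one_apply_ne (zero_ne_one : (0 : Fin 2) ≠ 1),
    Matrix.one_apply_ne (one_ne_zero : (1 : Fin 2) ≠ 0), map_one, map_zero]
  rfl

theorem tv_adj (M : Matrix (Fin 2) (Fin 2) F) : tv e (adjugate M) = adjQ (tv e M) := by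
  rw [Matrix.adjugate_fin_two]
  simp [tv, adjQ, ZMod.neg_val']

theorem cd_inv (x : G) : cd e x⁻¹ = invC (cd e x) := by
  induction x using QuotientGroup.induction_on with
  | _ M =>
    rw [← QuotientGroup.mk_inv, cd_mk, cd_mk, invC]
    show nrm (tv e (adjugate (M : Matrix (Fin 2) (Fin 2) F))) = _
    rcases dg_nrm e (M : Matrix (Fin 2) (Fin 2) F) with hM | hM <;> rw [hM, ← tv_adj]
    rw [show adjugate (-(M : Matrix (Fin 2) (Fin 2) F)) = -adjugate (M : Matrix (Fin 2) (Fin 2) F) by
      ext i j; fin_cases i <;> fin_cases j <;> simp [Matrix.adjugate_fin_two], nrm_neg]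

theorem cd_conj (g x : G) : cd e (g * x * g⁻¹) = conC (cd e g) (cd e x) := by
  rw [cd_mul, cd_mul, cd_inv]; rfl

theorem cd_mem (x : G) : cd e x ∈ allCodes := by
  induction x using QuotientGroup.induction_on with
  | _ M =>
    rw [cd_mk]
    have h := chk_all
    simp only [List.all_eq_true, List.mem_range, Bool.or_eq_true, bne_iff_ne, List.contains_iff_mem] at h
    refine (h _ (ZMod.val_lt (e (M.1 0 0))) _ (ZMod.val_lt (e (M.1 0 1))) _ (ZMod.val_lt (e (M.1 1 0))) _
      (ZMod.val_lt (e (M.1 1 1)))).resolve_left ?_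
    have hd := congrArg e (Matrix.det_fin_two (M : Matrix (Fin 2) (Fin 2) F))
    rw [M.det_coe, map_one, map_sub, map_mul, map_mul] at hd
    rw [not_not]
    show ((e (M.1 0 0)).val * (e (M.1 1 1)).val + (11 - (e (M.1 0 1)).val) * (e (M.1 1 0)).val) % 11 = 1
    rw [← ZMod.val_natCast, Nat.cast_add, Nat.cast_mul, Nat.cast_mul, Nat.cast_sub (ZMod.val_lt _).le,
      ZMod.natCast_zmod_val, ZMod.natCast_zmod_val, ZMod.natCast_zmod_val, ZMod.natCast_zmod_val, ZMod.natCast_self,
      zero_sub, neg_mul, ← sub_eq_add_neg, ← hd]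
    rfl

theorem cd_surj {n : ℕ} (hn : n ∈ allCodes) : ∃ x : G, cd e x = n := by
  have h := chk_surj
  simp only [List.all_eq_true, Bool.and_eq_true, beq_iff_eq, decide_eq_true_eq] at h
  obtain ⟨⟨hlt, hdet⟩, hnrm⟩ := h n hn
  let v : ℕ → F := fun k => e.symm (k : ZMod 11)
  let M : Matrix (Fin 2) (Fin 2) F := !![v (n / 1331), v (n / 121 % 11); v (n / 11 % 11), v (n % 11)]
  have hM : M.det = 1 := by
    apply e.injective
    rw [map_one, Matrix.det_fin_two_of, map_sub, map_mul, map_mul, e.apply_symm_apply, e.apply_symm_apply,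
      e.apply_symm_apply, e.apply_symm_apply]
    have h' : (((n / 1331 * (n % 11) + (11 - n / 121 % 11) * (n / 11 % 11)) % 11 : ℕ) : ZMod 11) = ((1 : ℕ) : ZMod 11) :=
      congrArg (fun k : ℕ => (k : ZMod 11)) hdet
    rw [ZMod.natCast_mod, Nat.cast_one, Nat.cast_add, Nat.cast_mul, Nat.cast_mul,
      Nat.cast_sub (Nat.mod_lt _ (by norm_num)).le, ZMod.natCast_self, zero_sub, neg_mul, ← sub_eq_add_neg] at h'
    exact h'
  refine ⟨QuotientGroup.mk' (Subgroup.center SL) ⟨M, hM⟩, ?_⟩
  have : tv e M = dg n := by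
    simp only [tv, M, v, dg, Matrix.of_apply, Matrix.cons_val', Matrix.cons_val_zero, Matrix.cons_val_one,
      Matrix.empty_val', Matrix.cons_val_fin_one, e.apply_symm_apply, ZMod.val_natCast, Nat.mod_mod]
    rw [Nat.mod_eq_of_lt (show n / 1331 < 11 by omega)]
  show nrm (tv e M) = n
  rw [this, hnrm]

/-- The subgroup with the given list of codes. -/
def listSub (l : List ℕ) (h1 : oneC ∈ l) (hm : ∀ x ∈ l, ∀ y ∈ l, mulC x y ∈ l) [Finite G] : Subgroup G :=
  { carrier := {x | cd e x ∈ l}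
    one_mem' := by show cd e (1 : G) ∈ l; rw [cd_one]; exact h1
    mul_mem' := fun {x y} hx hy => by show cd e (x * y) ∈ l; rw [cd_mul]; exact hm _ hx _ hy
    inv_mem' := fun {x} hx => by
      show cd e x⁻¹ ∈ l
      obtain ⟨k, hk⟩ : ∃ k : ℕ, x⁻¹ = x ^ k := by
        obtain ⟨k, hk⟩ := (isOfFinOrder_of_finite x).mem_powers_iff_mem_zpowers.mpr
          (inv_mem (Subgroup.mem_zpowers x) : x⁻¹ ∈ Subgroup.zpowers x)
        exact ⟨k, hk.symm⟩
      rw [hk]
      clear hk
      induction k with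
      | zero => rw [pow_zero, cd_one]; exact h1
      | succ k ih => rw [pow_succ, cd_mul]; exact hm _ ih _ hx }

theorem card_listSub [Finite G] (l : List ℕ) (h1 : oneC ∈ l) (hm : ∀ x ∈ l, ∀ y ∈ l, mulC x y ∈ l)
    (hsub : ∀ x ∈ l, x ∈ allCodes) (hnd : l.Nodup) : Nat.card (listSub e l h1 hm) = l.length := by
  classical
  rw [← List.toFinset_card_of_nodup hnd, ← Nat.card_eq_finsetCard]
  refine Nat.card_eq_of_bijective (fun x => (⟨cd e x.1, List.mem_toFinset.mpr x.2⟩ : l.toFinset)) ⟨?_, ?_⟩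
  · exact fun x y h => Subtype.ext (cd_injective e (congrArg Subtype.val h))
  · rintro ⟨n, hn⟩
    obtain ⟨x, hx⟩ := cd_surj e (hsub n (List.mem_toFinset.mp hn))
    exact ⟨⟨x, show cd e x ∈ l by rw [hx]; exact List.mem_toFinset.mp hn⟩, Subtype.ext hx⟩

/-- The outer automorphism. -/
def outHom (u v : F) (huv : u * v = 1) : SL →* SL :=
  { toFun := fun M => ⟨!![M.1 0 0, u * M.1 0 1; v * M.1 1 0, M.1 1 1], by
      have h := Matrix.det_fin_two (M : Matrix (Fin 2) (Fin 2) F)
      rw [M.det_coe] at h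
      rw [Matrix.det_fin_two_of]
      linear_combination (-h) - (M.1 0 1 * M.1 1 0) * huv⟩
    map_one' := Subtype.ext (by
      show !![(1 : Matrix (Fin 2) (Fin 2) F) 0 0, u * (1 : Matrix (Fin 2) (Fin 2) F) 0 1;
        v * (1 : Matrix (Fin 2) (Fin 2) F) 1 0, (1 : Matrix (Fin 2) (Fin 2) F) 1 1] = 1
      ext i j; fin_cases i <;> fin_cases j <;> simp)
    map_mul' := fun M N => Subtype.ext (by
      show !![(M.1 * N.1) 0 0, u * (M.1 * N.1) 0 1; v * (M.1 * N.1) 1 0, (M.1 * N.1) 1 1] =
        !![M.1 0 0, u * M.1 0 1; v * M.1 1 0, M.1 1 1] * !![N.1 0 0, u * N.1 0 1; v * N.1 1 0, N.1 1 1]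
      ext i j; fin_cases i <;> fin_cases j <;> simp [Matrix.mul_apply, Fin.sum_univ_two] <;>
        first
          | linear_combination -(M.1 0 1 * N.1 1 0) * huv
          | linear_combination -(M.1 1 0 * N.1 0 1) * huv
          | ring) }

theorem outHom_center (u v : F) (huv : u * v = 1) :
    Subgroup.center SL ≤ (Subgroup.center SL).comap (outHom u v huv) := by
  intro z hz
  rw [Subgroup.mem_comap]
  have he : outHom u v huv z = z := by
    refine Subtype.ext ?_
    show !![z.1 0 0, u * z.1 0 1; v * z.1 1 0, z.1 1 1] = z.1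
    rcases center_iff z hz with hc | hc <;> rw [hc] <;> ext i j <;> fin_cases i <;> fin_cases j <;> simp
  rw [he]; exact hz

/-- The outer automorphism on the projective group. -/
def outG (u v : F) (huv : u * v = 1) : G →* G :=
  QuotientGroup.map _ _ (outHom u v huv) (outHom_center u v huv)

theorem outG_injective (u v : F) (huv : u * v = 1) : Function.Injective (outG u v huv) := by
  refine Function.LeftInverse.injective (g := outG v u (by rw [mul_comm]; exact huv)) fun x => ?_
  induction x using QuotientGroup.induction_on with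
  | _ M =>
    show ((outHom v u _ (outHom u v huv M) : SL) : G) = _
    congr 1
    refine Subtype.ext ?_
    show !![M.1 0 0, v * (u * M.1 0 1); u * (v * M.1 1 0), M.1 1 1] = M.1
    ext i j; fin_cases i <;> fin_cases j <;> simp
    · linear_combination (M.1 0 1) * huv
    · linear_combination (M.1 1 0) * huv

theorem cd_outG (huv : e.symm 2 * e.symm 6 = 1) (x : G) : cd e (outG (e.symm 2) (e.symm 6) huv x) = outC (cd e x) := by
  induction x using QuotientGroup.induction_on with
  | _ M =>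
    show nrm (tv e (!![M.1 0 0, e.symm 2 * M.1 0 1; e.symm 6 * M.1 1 0, M.1 1 1] : Matrix (Fin 2) (Fin 2) F)) = _
    rw [cd_mk, outC]
    have key : ∀ A : Matrix (Fin 2) (Fin 2) F,
        tv e !![A 0 0, e.symm 2 * A 0 1; e.symm 6 * A 1 0, A 1 1] = outQ (tv e A) := fun A => by
      simp [tv, outQ, ZMod.val_mul]
      exact ⟨rfl, rfl⟩
    rcases dg_nrm e (M : Matrix (Fin 2) (Fin 2) F) with hM | hM <;> rw [hM, ← key]
    rw [← nrm_neg]
    congr 2
    ext i j; fin_cases i <;> fin_cases j <;> simp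

theorem chk_count : allCodes.Nodup ∧ allCodes.length = 660 := by decide +kernel

theorem card_eq_length (l : List ℕ) (hmem : ∀ x : G, cd e x ∈ l) (hsur : ∀ n, n ∈ l → ∃ x : G, cd e x = n)
    (hnd : l.Nodup) : Nat.card G = l.length := by
  classical
  rw [← List.toFinset_card_of_nodup hnd, ← Nat.card_eq_finsetCard]
  refine Nat.card_eq_of_bijective (fun x => (⟨cd e x, List.mem_toFinset.mpr (hmem x)⟩ : l.toFinset)) ⟨?_, ?_⟩
  · exact fun x y h => cd_injective e (congrArg Subtype.val h)
  · rintro ⟨n, hn⟩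
    obtain ⟨x, hx⟩ := hsur n (List.mem_toFinset.mp hn)
    exact ⟨x, Subtype.ext hx⟩

theorem a5_pair : ∃ a b : alternatingGroup (Fin 5), a * a = 1 ∧ a ≠ 1 ∧ b * b * b = 1 ∧ b ≠ 1 ∧
    (a * b) * (a * b) * (a * b) * (a * b * (a * b)) = 1 ∧ a * b ≠ 1 := by
  decide +kernel

include e in
set_option maxHeartbeats 1000000 in
theorem main : Nat.card {H : Subgroup G // Nonempty (H ≃* alternatingGroup (Fin 5))} = 22 ∧
    ∃ H K : Subgroup G, Nonempty (H ≃* alternatingGroup (Fin 5)) ∧ Nonempty (K ≃* alternatingGroup (Fin 5)) ∧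
      (∀ g : G, MulAut.conj g • H ≠ K) ∧
      ∀ L : Subgroup G, Nonempty (L ≃* alternatingGroup (Fin 5)) → ∃ g : G, MulAut.conj g • L = H ∨ MulAut.conj g • L = K := by
  classical
  haveI : Finite G := inferInstance
  have hall := chk_closed
  simp only [Bool.and_eq_true, List.all_eq_true, List.contains_iff_mem, beq_iff_eq, decide_eq_true_eq] at hall
  obtain ⟨⟨⟨⟨⟨⟨⟨⟨⟨⟨⟨⟨hc1, hc2⟩, hout⟩, ho1⟩, ho2⟩, hs1⟩, hs2⟩, hp⟩, hq⟩, hl1⟩, hl2⟩, hn1⟩, hn2⟩ := hall
  set H1 := listSub e icoOne ho1 hc1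
  set H2 := listSub e icoTwo ho2 hc2
  have hcard1 : Nat.card H1 = 60 := (card_listSub e _ ho1 hc1 hs1 hn1).trans hl1
  have hcard2 : Nat.card H2 = 60 := (card_listSub e _ ho2 hc2 hs2 hn2).trans hl2
  have hA5 : Nat.card (alternatingGroup (Fin 5)) = 60 := by
    rw [nat_card_alternatingGroup, Nat.card_fin]; rfl
  have hmap : ∀ (L : Subgroup G) (g x : G), x ∈ MulAut.conj g • L ↔ ∃ y ∈ L, g * y * g⁻¹ = x := fun L g x => Iff.rfl
  have hcardc : ∀ (L : Subgroup G) (g : G), Nat.card (MulAut.conj g • L : Subgroup G) = Nat.card L := fun L g => by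
    exact Subgroup.card_map_of_injective (MulAut.conj g).injective
  -- every copy is conjugate to one of the two
  have hclass : ∀ L : Subgroup G, Nonempty (L ≃* alternatingGroup (Fin 5)) →
      ∃ g : G, MulAut.conj g • L = H1 ∨ MulAut.conj g • L = H2 := by
    rintro L ⟨i⟩
    obtain ⟨a, b, ha, ha1, hb, hb1, hab, hab1⟩ := a5_pair
    set A : G := (i.symm a).1
    set B : G := (i.symm b).1
    have hne : ∀ x : alternatingGroup (Fin 5), x ≠ 1 → (i.symm x).1 ≠ 1 := fun x hx h =>
      hx (i.symm.injective ((Subtype.ext h).trans i.symm.map_one.symm))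
    have hcne : ∀ x : G, x ≠ 1 → cd e x ≠ oneC := fun x hx h => hx (cd_injective e (h.trans (cd_one e).symm))
    have hAA : mulC (cd e A) (cd e A) = oneC := by
      rw [← cd_mul, show A * A = 1 from congrArg Subtype.val ((i.symm.map_mul a a).symm.trans (by rw [ha, map_one])), cd_one]
    have hchk := chk_invol
    simp only [List.all_eq_true, List.any_eq_true, Bool.or_eq_true, bne_iff_ne, beq_iff_eq] at hchk
    obtain ⟨g0, hg0, hg0'⟩ := ((hchk _ (cd_mem e A)).resolve_left (not_or.mpr ⟨not_not.mpr hAA, hcne A (hne a ha1)⟩))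
    obtain ⟨u, rfl⟩ := cd_surj e (hq g0 hg0)
    rw [← cd_conj] at hg0'
    set A' := u * A * u⁻¹
    set B' := u * B * u⁻¹
    have hpow : B' * B' * B' = 1 := by
      have h : B * B * B = 1 := congrArg Subtype.val ((show i.symm b * i.symm b * i.symm b = 1 by rw [← map_mul, ← map_mul, hb, map_one]))
      calc B' * B' * B' = u * (B * B * B) * u⁻¹ := by simp only [B']; group
        _ = 1 := by rw [h, mul_one, mul_inv_cancel]
    have hpow5 : (A' * B') * (A' * B') * (A' * B') * (A' * B' * (A' * B')) = 1 := by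
      have h : A * B * (A * B) * (A * B) * (A * B * (A * B)) = 1 := congrArg Subtype.val
        ((show i.symm a * i.symm b * (i.symm a * i.symm b) * (i.symm a * i.symm b) * (i.symm a * i.symm b * (i.symm a * i.symm b)) = 1 by
          simp only [← map_mul]; rw [hab, map_one]))
      calc _ = u * (A * B * (A * B) * (A * B) * (A * B * (A * B))) * u⁻¹ := by simp only [A', B']; group
        _ = 1 := by rw [h, mul_one, mul_inv_cancel]
    have hB1 : B' ≠ 1 := fun h => hne b hb1 (conj_eq_one_iff.mp h)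
    have hAB1 : A' * B' ≠ 1 := fun h => hne (a * b) hab1 (by
      rw [map_mul]
      show A * B = 1
      have : u * (A * B) * u⁻¹ = 1 := by rw [← h]; simp only [A', B']; group
      exact conj_eq_one_iff.mp this)
    have hp3 := chk_pairs
    simp only [List.all_eq_true, List.any_eq_true, Bool.or_eq_true, Bool.and_eq_true, bne_iff_ne, beq_iff_eq,
      List.contains_iff_mem] at hp3
    obtain ⟨w, hw, hw'⟩ := (hp3 _ (cd_mem e B')).resolve_left (by
      rw [← hg0']
      simp only [pow5, pow3, ← cd_mul]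
      rw [hpow, hpow5, cd_one]
      rintro (((h | h) | h) | h)
      · exact h rfl
      · exact hcne B' hB1 h
      · exact h rfl
      · exact hcne _ hAB1 h)
    obtain ⟨v, rfl⟩ := cd_surj e (hp w hw)
    rw [← hg0', ← cd_conj, ← cd_conj] at hw'
    refine ⟨v * u, ?_⟩
    have hgen : Subgroup.closure ({a, b} : Set (alternatingGroup (Fin 5))) = ⊤ := by
      haveI := alternatingGroup.isSimpleGroup (α := Fin 5) (by simp)
      by_contra hne'
      set S := Subgroup.closure ({a, b} : Set (alternatingGroup (Fin 5)))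
      have h2 : 2 ∣ Nat.card S := by
        have hh := Subgroup.orderOf_dvd_natCard S (show a ∈ S from Subgroup.subset_closure (by simp))
        rwa [orderOf_eq_prime (p := 2) (by rw [pow_two]; exact ha) ha1] at hh
      have h3 : 3 ∣ Nat.card S := by
        haveI : Fact (Nat.Prime 3) := ⟨Nat.prime_three⟩
        have hh := Subgroup.orderOf_dvd_natCard S (show b ∈ S from Subgroup.subset_closure (by simp))
        rwa [orderOf_eq_prime (p := 3) (by rw [pow_succ, pow_two]; exact hb) hb1] at hh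
      have h5 : 5 ∣ Nat.card S := by
        haveI : Fact (Nat.Prime 5) := ⟨by norm_num⟩
        have hh := Subgroup.orderOf_dvd_natCard S (mul_mem (show a ∈ S from Subgroup.subset_closure (by simp)) (show b ∈ S from Subgroup.subset_closure (by simp)))
        rwa [orderOf_eq_prime (p := 5) (by rw [show (a * b) ^ 5 = a * b * (a * b) * (a * b) * (a * b * (a * b)) by simp only [pow_succ, pow_zero, one_mul, mul_assoc]]; exact hab) hab1] at hh
      have h30 : 30 ∣ Nat.card S := Nat.Coprime.mul_dvd_of_dvd_of_dvd (by norm_num : Nat.Coprime 6 5)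
        (Nat.Coprime.mul_dvd_of_dvd_of_dvd (by norm_num : Nat.Coprime 2 3) h2 h3) h5
      obtain ⟨k, hk⟩ := h30
      have hmul := S.card_mul_index
      rw [hA5, hk, mul_assoc] at hmul
      have h12 : k * S.index = 2 := by omega
      have hi : S.index ∣ 2 := ⟨k, by rw [mul_comm]; exact h12.symm⟩
      rcases (Nat.dvd_prime Nat.prime_two).mp hi with h | h
      · exact hne' (Subgroup.index_eq_one.mp h)
      · haveI := Subgroup.normal_of_index_eq_two h
        rcases IsSimpleGroup.eq_bot_or_eq_top_of_normal S inferInstance with h' | h'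
        · rw [h', Subgroup.card_bot] at hk; omega
        · exact hne' h'
    have hle : ∀ T : Subgroup G, v * A' * v⁻¹ ∈ T → v * B' * v⁻¹ ∈ T → MulAut.conj (v * u) • L ≤ T := by
      intro T hTa hTb x hx
      obtain ⟨y, hy, rfl⟩ := (hmap L _ _).mp hx
      obtain ⟨z, hz⟩ := i.symm.surjective ⟨y, hy⟩
      have hz' : (i.symm z).1 = y := congrArg Subtype.val hz
      rw [← hz']
      clear hz hz' hy hx y
      induction (hgen ▸ Subgroup.mem_top z : z ∈ Subgroup.closure ({a, b} : Set (alternatingGroup (Fin 5)))) using Subgroup.closure_induction with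
      | mem w hw =>
        rcases hw with rfl | rfl
        · rw [show v * u * A * (v * u)⁻¹ = v * A' * v⁻¹ by simp only [A']; group]; exact hTa
        · rw [show v * u * B * (v * u)⁻¹ = v * B' * v⁻¹ by simp only [B']; group]; exact hTb
      | one => rw [map_one]; simp
      | mul p r _ _ hp hr => rw [map_mul, Subgroup.coe_mul, ← conj_mul]; exact mul_mem hp hr
      | inv p _ hp => rw [map_inv, Subgroup.coe_inv, ← conj_inv]; exact inv_mem hp
    rcases hw' with ⟨h1, h2⟩ | ⟨h1, h2⟩
    · left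
      exact Subgroup.eq_of_le_of_card_ge (hle H1 h1 h2) (le_of_eq (by rw [hcardc, hcard1, Nat.card_congr i.toEquiv, hA5]))
    · right
      exact Subgroup.eq_of_le_of_card_ge (hle H2 h1 h2) (le_of_eq (by rw [hcardc, hcard2, Nat.card_congr i.toEquiv, hA5]))
  have hconjiso : ∀ (L : Subgroup G) (g : G), Nonempty (L ≃* (MulAut.conj g • L : Subgroup G)) := fun L g =>
    ⟨L.equivSMul (MulAut.conj g)⟩
  -- both are alternating
  have h26 : e.symm 2 * e.symm 6 = 1 := by rw [← map_mul, show (2 : ZMod 11) * 6 = 1 from rfl, map_one]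
  have hH12 : H1.map (outG (e.symm 2) (e.symm 6) h26) = H2 := by
    refine Subgroup.eq_of_le_of_card_ge ?_ (le_of_eq (by rw [Subgroup.card_map_of_injective (outG_injective _ _ _), hcard1, hcard2]))
    rintro _ ⟨x, hx, rfl⟩
    show cd e _ ∈ icoTwo
    rw [cd_outG]
    exact hout _ hx
  have hiso12 : Nonempty (H1 ≃* H2) :=
    ⟨(H1.equivMapOfInjective _ (outG_injective _ _ h26)).trans (MulEquiv.subgroupCongr hH12)⟩
  obtain ⟨i12⟩ := hiso12
  have hF2 : (2 : F) ≠ 0 := fun h => by
    have := congrArg e h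
    rw [map_ofNat, map_zero] at this
    exact absurd this (by decide)
  have hF5 : IsSquare (5 : F) := ⟨e.symm 4, by
    apply e.injective
    rw [map_mul, e.apply_symm_apply, map_ofNat]
    rfl⟩
  haveI : Fact (Nat.Prime 11) := ⟨by norm_num⟩
  obtain ⟨L0, ⟨i0⟩⟩ := PSL2Platonic.exists_A5 (F := F) hF2 hF5
  obtain ⟨hi1, hi2⟩ : Nonempty (H1 ≃* alternatingGroup (Fin 5)) ∧ Nonempty (H2 ≃* alternatingGroup (Fin 5)) := by
    obtain ⟨g, hg | hg⟩ := hclass L0 ⟨i0⟩ <;> obtain ⟨j⟩ := hconjiso L0 g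
    · have k := (MulEquiv.subgroupCongr hg).symm.trans (j.symm.trans i0)
      exact ⟨⟨k⟩, ⟨i12.symm.trans k⟩⟩
    · have k := (MulEquiv.subgroupCongr hg).symm.trans (j.symm.trans i0)
      exact ⟨⟨i12.trans k⟩, ⟨k⟩⟩
  have hapart : ∀ g : G, MulAut.conj g • H1 ≠ H2 := by
    intro g h
    have hx := chk_apart
    simp only [List.all_eq_true, List.any_eq_true, Bool.not_eq_true', List.contains_eq_mem, decide_eq_false_iff_not] at hx
    obtain ⟨n, hn, hn'⟩ := hx _ (cd_mem e g)
    obtain ⟨x, rfl⟩ := cd_surj e (hs1 n hn)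
    apply hn'
    rw [← cd_conj]
    show g * x * g⁻¹ ∈ H2
    rw [← h]
    exact (hmap H1 g _).mpr ⟨x, hn, rfl⟩
  -- orbit sizes
  have hG : Nat.card G = 660 := by
    exact (card_eq_length e _ (cd_mem e) (fun n => cd_surj e) chk_count.1).trans chk_count.2
  have horb : ∀ (K : Subgroup G) (g : G), Nat.card K = 60 → MulAut.conj g • K ≠ K →
      (Set.range fun x : G => MulAut.conj x • K).ncard = 11 := by
    intro K g hK hg
    letI : MulAction G (Subgroup G) := MulAction.compHom (Subgroup G) (MulAut.conj : G →* MulAut G)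
    have hsub : K ≤ MulAction.stabilizer G K := by
      intro k hk
      show MulAut.conj k • K = K
      exact Subgroup.eq_of_le_of_card_ge (fun x hx => by
        obtain ⟨y, hy, rfl⟩ := (hmap K k x).mp hx
        exact mul_mem (mul_mem hk hy) (inv_mem hk)) (le_of_eq (hcardc K k).symm)
    have hne : MulAction.stabilizer G K ≠ ⊤ := fun h => hg (h ▸ Subgroup.mem_top g : g ∈ MulAction.stabilizer G K)
    have hd := Subgroup.card_dvd_of_le hsub
    have hmul := (MulAction.stabilizer G K).card_mul_index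
    rw [hG] at hmul
    rw [hK] at hd
    obtain ⟨k, hk⟩ := hd
    rw [hk, mul_assoc] at hmul
    have h11 : k * (MulAction.stabilizer G K).index = 11 := by omega
    have hi : (MulAction.stabilizer G K).index ∣ 11 := ⟨k, by rw [mul_comm]; exact h11.symm⟩
    rw [MulAction.index_stabilizer] at hi
    rcases (Nat.dvd_prime (by norm_num)).mp hi with h | h
    · exact absurd (Subgroup.index_eq_one.mp ((MulAction.index_stabilizer G K).trans h)) hne
    · exact h
  have hmv := chk_moving
  simp only [Bool.and_eq_true, List.any_eq_true, Bool.not_eq_true', List.contains_eq_mem, decide_eq_true_eq,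
    decide_eq_false_iff_not] at hmv
  obtain ⟨⟨⟨hm1, hm2⟩, hx1⟩, hx2⟩ := hmv
  have hmove : ∀ (l : List ℕ) (ho : oneC ∈ l) (hm : ∀ x ∈ l, ∀ y ∈ l, mulC x y ∈ l) (c : ℕ), c ∈ allCodes →
      (∀ x ∈ l, x ∈ allCodes) → (∃ x ∈ l, conC c x ∉ l) → ∃ g : G, MulAut.conj g • listSub e l ho hm ≠ listSub e l ho hm := by
    intro l ho hm c hc hs ⟨n, hn, hn'⟩
    obtain ⟨g, rfl⟩ := cd_surj e hc
    obtain ⟨x, rfl⟩ := cd_surj e (hs n hn)
    refine ⟨g, fun h => hn' ?_⟩
    rw [← cd_conj]
    show g * x * g⁻¹ ∈ listSub e l ho hm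
    rw [← h]
    exact (hmap _ g _).mpr ⟨x, hn, rfl⟩
  obtain ⟨g1, hg1⟩ := hmove icoOne ho1 hc1 232 hm1 hs1 hx1
  obtain ⟨g2, hg2⟩ := hmove icoTwo ho2 hc2 231 hm2 hs2 hx2
  refine ⟨?_, H1, H2, hi1, hi2, hapart, hclass⟩
  have hset : {H : Subgroup G | Nonempty (H ≃* alternatingGroup (Fin 5))} =
      (Set.range fun x : G => MulAut.conj x • H1) ∪ (Set.range fun x : G => MulAut.conj x • H2) := by
    ext L
    constructor
    · intro hL
      obtain ⟨g, h | h⟩ := hclass L hL
      · left; exact ⟨g⁻¹, by rw [← h]; simp⟩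
      · right; exact ⟨g⁻¹, by rw [← h]; simp⟩
    · rintro (⟨g, rfl⟩ | ⟨g, rfl⟩)
      · obtain ⟨j⟩ := hconjiso H1 g; obtain ⟨k⟩ := hi1; exact ⟨j.symm.trans k⟩
      · obtain ⟨j⟩ := hconjiso H2 g; obtain ⟨k⟩ := hi2; exact ⟨j.symm.trans k⟩
  have hdis : Disjoint (Set.range fun x : G => MulAut.conj x • H1) (Set.range fun x : G => MulAut.conj x • H2) := by
    rw [Set.disjoint_left]
    rintro _ ⟨x, rfl⟩ ⟨y, hy⟩
    refine hapart (y⁻¹ * x) ?_
    rw [map_mul, mul_smul, map_inv, inv_smul_eq_iff]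
    exact hy.symm
  show Nat.card ↥{H : Subgroup G | Nonempty (H ≃* alternatingGroup (Fin 5))} = 22
  rw [Nat.card_coe_set_eq, hset, Set.ncard_union_eq hdis, horb H1 g1 hcard1 hg1, horb H2 g2 hcard2 hg2]

end Model

end CfsgLib.PSL2Eleven
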